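import Cfsg.Agent.Lib.Helper39.SU.Trans

/-!
# Hermitian matrices: rank one or an isotropic vector outside the radical
-/

set_option autoImplicit false
set_option linter.unusedSectionVars false

namespace Cfsg.Agent.Lib.Helper39.SUDeg

open Matrix Module Cfsg.Agent.Lib.Helper13 Cfsg.Agent.Lib.Helper5

variable {F : Type*} [Field F] [Fintype F] {q : ℕ} (hF : Fintype.card F = q ^ 2)
variable {ι : Type*} [Fintype ι] [DecidableEq ι]

include hF

theorem hf_add_add (T : Matrix ι ι F) (u v : ι → F) :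
    hf q T (u + v) (u + v) = hf q T u u + hf q T u v + hf q T v u + hf q T v v := by
  rw [hf_add_left hF, hf_add_right, hf_add_right]
  ring

theorem herm_exists_ne {T : Matrix ι ι F} (hT : cT hF T = T) (h0 : T ≠ 0) :
    ∃ v, hf q T v v ≠ 0 := by
  by_contra hcon
  push Not at hcon
  obtain ⟨i, j, hij⟩ : ∃ i j, T i j ≠ 0 := by
    by_contra h
    push Not at h
    apply h0
    ext i j
    exact h i j
  obtain ⟨a, ha⟩ := exists_tr hF 1 (one_pow q)
  have h1 := hf_add_add hF T (Pi.single i 1) ((a / T i j) • Pi.single j 1)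
  rw [hcon, hcon, hcon, zero_add, add_zero, ← hf_swap hF hT (Pi.single i 1), hf_smul_right,
    hf_single hF, div_mul_cancel₀ _ hij, ha] at h1
  exact zero_ne_one h1

theorem hf_single_left (T : Matrix ι ι F) (j : ι) (v : ι → F) :
    hf q T (Pi.single j 1) v = (T *ᵥ v) j := by
  unfold hf
  rw [cv_single hF, single_one_dotProduct]

theorem herm_dichotomy {T : Matrix ι ι F} (hT : cT hF T = T) (h0 : T ≠ 0) :
    (∃ x, hf q T x x = 0 ∧ T *ᵥ x ≠ 0) ∨
      (∃ (u : ι → F) (t : F), u ≠ 0 ∧ t ≠ 0 ∧ T = t • vecMulVec u (cv q u)) := by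
  obtain ⟨v₁, hv₁⟩ := herm_exists_ne hF hT h0
  set a := hf q T v₁ v₁ with ha
  have haq : a ^ q = a := hf_self_pow hF hT v₁
  by_cases hiso : ∃ x, hf q T x x = 0 ∧ T *ᵥ x ≠ 0
  · exact Or.inl hiso
  right
  push Not at hiso
  have hq := two_le_of_card_sq hF
  have claim : ∀ y, hf q T v₁ y = 0 → T *ᵥ y = 0 := by
    intro y hy
    by_cases ht : hf q T y y = 0
    · exact hiso y ht
    exfalso
    set t := hf q T y y with htd
    have htq : t ^ q = t := hf_self_pow hF hT y
    obtain ⟨c, hc0, hc⟩ := exists_norm_eq hF (-t / a) (div_ne_zero (neg_ne_zero.2 ht) hv₁) (by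
      rw [div_pow, neg_pow_q hF, htq, haq])
    have hy' : hf q T y v₁ = 0 := by
      rw [← hf_swap hF hT, hy, zero_pow (by omega)]
    have h1 : hf q T (c • v₁ + y) (c • v₁ + y) = 0 := by
      rw [hf_add_add hF, hf_smul_left, hf_smul_right, hf_smul_left, hf_smul_right, hy, hy', ← ha,
        ← htd, mul_zero, mul_zero, add_zero, add_zero, ← mul_assoc, ← pow_succ, hc]
      field_simp
      ring
    have h2 := hiso _ h1
    have h3 : hf q T v₁ (c • v₁ + y) = c * a := by
      rw [hf_add_right, hf_smul_right, hy, add_zero]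
    have h4 : hf q T v₁ (c • v₁ + y) = 0 := by
      unfold hf
      rw [h2, dotProduct_zero]
    rw [h4] at h3
    exact mul_ne_zero hc0 hv₁ h3.symm
  have key : ∀ z, T *ᵥ z = (hf q T v₁ z / a) • (T *ᵥ v₁) := by
    intro z
    have h1 : hf q T v₁ (z + (-(hf q T v₁ z / a)) • v₁) = 0 := by
      rw [hf_add_right, hf_smul_right, ← ha]
      field_simp
      ring
    have h2 := claim _ h1
    rw [Matrix.mulVec_add, Matrix.mulVec_smul, neg_smul, add_neg_eq_zero] at h2
    exact h2
  refine ⟨T *ᵥ v₁, a⁻¹, ?_, inv_ne_zero hv₁, ?_⟩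
  · intro h
    apply hv₁
    rw [ha]
    unfold hf
    rw [h, dotProduct_zero]
  · ext i j
    have h1 := congrFun (key (Pi.single j 1)) i
    rw [Matrix.mulVec_single_one] at h1
    have h2 : hf q T v₁ (Pi.single j 1) = (T *ᵥ v₁) j ^ q := by
      rw [← hf_swap hF hT, hf_single_left hF]
    rw [h2] at h1
    simp only [Matrix.col_apply, Pi.smul_apply, smul_eq_mul] at h1
    rw [h1]
    simp only [Matrix.smul_apply, Matrix.vecMulVec_apply, cv_apply, smul_eq_mul]
    field_simp

theorem conj_rank_one (A : Matrix ι ι F) (t : F) (u : ι → F) :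
    cT hF A * (t • vecMulVec u (cv q u)) * A
      = t • vecMulVec (cT hF A *ᵥ u) (cv q (cT hF A *ᵥ u)) := by
  rw [Matrix.mul_smul, Matrix.smul_mul, Matrix.mul_vecMulVec, Matrix.vecMulVec_mul]
  congr 2
  rw [cv_mulVec hF]
  have : (cT hF A).map (frobQ hF) = Aᵀ := by
    ext i j
    simp only [cT_apply, Matrix.map_apply, frobQ_apply, pow_q_pow_q hF, Matrix.transpose_apply]
  rw [this, Matrix.mulVec_transpose]

/-- fibres of `y ↦ y yᴴ` -/
theorem rank_one_fibre {t : F} (ht : t ≠ 0) {y y' : ι → F} (hy : y ≠ 0)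
    (h : t • vecMulVec y' (cv q y') = t • vecMulVec y (cv q y)) :
    ∃ c : F, c ^ (q + 1) = 1 ∧ y' = c • y := by
  obtain ⟨i, hi⟩ : ∃ i, y i ≠ 0 := by
    by_contra hcon
    push Not at hcon
    exact hy (funext hcon)
  have h1 : ∀ j k, y' j * y' k ^ q = y j * y k ^ q := by
    intro j k
    have := congrFun (congrFun h j) k
    simp only [Matrix.smul_apply, Matrix.vecMulVec_apply, cv_apply, smul_eq_mul] at this
    exact mul_left_cancel₀ ht this
  have h2 := h1 i i
  have hi' : y' i ≠ 0 := by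
    intro h0
    rw [h0, zero_mul] at h2
    exact mul_ne_zero hi (pow_ne_zero _ hi) h2.symm
  refine ⟨y i ^ q / y' i ^ q, ?_, ?_⟩
  · rw [div_pow, div_eq_one_iff_eq (pow_ne_zero _ (pow_ne_zero _ hi'))]
    rw [pow_succ, pow_succ, pow_q_pow_q hF, pow_q_pow_q hF, h2]
  · ext j
    have h3 := h1 j i
    simp only [Pi.smul_apply, smul_eq_mul]
    have := pow_ne_zero q hi'
    field_simp
    rw [h3, mul_comm]

end Cfsg.Agent.Lib.Helper39.SUDeg
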