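import Cfsg.Agent.Lib.Helper39.SU.Orbit
import Cfsg.Agent.Lib.Helper15.CharTools
import Cfsg.Agent.Lib.Helper3.Perm

/-!
# Fourier analysis on the group of Hermitian matrices
-/

set_option autoImplicit false
set_option linter.unusedSectionVars false

namespace Cfsg.Agent.Lib.Helper39.SUDeg

open Cfsg Cfsg.Agent.Lib Cfsg.Agent.Lib.Helper15
open scoped ComplexConjugate

section general

variable {B : Type*} [AddCommGroup B] [Fintype B]

/-- multiplicity of the additive character `μ` in a function on `B`. -/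
noncomputable def gMult (f : B → ℂ) (μ : AddChar B ℂ) : ℂ :=
  (Fintype.card B : ℂ)⁻¹ * ∑ x : B, f x * conj (μ x)

theorem gAddChar_irr (μ : AddChar B ℂ) :
    IsIrrCharacter (Multiplicative B) (fun x => μ (Multiplicative.toAdd x)) :=
  Helper3.isIrrCharacter_of_hom (μ.toMonoidHom).toHomUnits

theorem gMult_eq_inner (f : B → ℂ) (μ : AddChar B ℂ) :
    gMult f μ = classInner (fun x : Multiplicative B => f (Multiplicative.toAdd x))
      (fun x => μ (Multiplicative.toAdd x)) := by
  unfold gMult classInner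
  congr 1
  · rw [Nat.card_eq_fintype_card, Fintype.card_multiplicative]
  · exact (Fintype.sum_equiv Multiplicative.toAdd _ _ (fun x => rfl)).symm

theorem gMult_nat {H : Type*} [Group H] (u : Multiplicative B →* H) {χ : H → ℂ}
    (hχ : IsCharacter H χ) (μ : AddChar B ℂ) :
    ∃ n : ℕ, gMult (fun x => χ (u (Multiplicative.ofAdd x))) μ = n := by
  rw [gMult_eq_inner]
  exact inner_nat (Helper3.IsCharacter.comp_hom hχ u) (irr_char (gAddChar_irr μ))

theorem gMult_add (f g : B → ℂ) (μ : AddChar B ℂ) :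
    gMult (f + g) μ = gMult f μ + gMult g μ := by
  unfold gMult
  simp only [Pi.add_apply, add_mul, Finset.sum_add_distrib, mul_add]

theorem gMult_inversion [DecidableEq B] (f : B → ℂ) (L : B → AddChar B ℂ)
    (hL : ∀ z : B, z ≠ 0 → ∑ T, L T z = 0) (y : B) :
    ∑ T, gMult f (L T) * L T y = f y := by
  unfold gMult
  have h1 : ∀ T : B, (Fintype.card B : ℂ)⁻¹ * (∑ x : B, f x * conj (L T x)) * L T y
      = (Fintype.card B : ℂ)⁻¹ * ∑ x : B, f x * L T (y - x) := by
    intro T
    rw [mul_assoc, Finset.sum_mul]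
    congr 1
    apply Finset.sum_congr rfl
    intro x _
    rw [← AddChar.map_neg_eq_conj, mul_assoc, ← AddChar.map_add_eq_mul]
    congr 2
    abel
  simp_rw [h1]
  rw [← Finset.mul_sum, Finset.sum_comm]
  simp_rw [← Finset.mul_sum]
  rw [Finset.sum_eq_single y]
  · have hq : (Fintype.card B : ℂ) ≠ 0 := by exact_mod_cast Fintype.card_ne_zero
    simp only [sub_self, AddChar.map_zero_eq_one, Finset.sum_const, Finset.card_univ, nsmul_eq_mul,
      mul_one]
    field_simp
  · intro x _ hx
    rw [hL _ (sub_ne_zero.2 (Ne.symm hx)), mul_zero]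
  · intro h
    exact absurd (Finset.mem_univ _) h

end general

open Matrix Cfsg.Agent.Lib.Helper13 Cfsg.Agent.Lib.Helper5

variable {F : Type*} [Field F] [Fintype F] [DecidableEq F] {q : ℕ} (hF : Fintype.card F = q ^ 2)
variable (ι : Type*) [Fintype ι] [DecidableEq ι]

/-- the additive group of Hermitian matrices -/
def hermSub : AddSubgroup (Matrix ι ι F) where
  carrier := {S | cT hF S = S}
  zero_mem' := cT_zero hF
  add_mem' := by
    intro a b ha hb
    change cT hF (a + b) = a + b
    rw [cT_add, ha, hb]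
  neg_mem' := by
    intro a ha
    change cT hF (-a) = -a
    rw [cT_neg, ha]

variable {ι}

theorem mem_hermSub {S : Matrix ι ι F} : S ∈ hermSub hF ι ↔ cT hF S = S := Iff.rfl

noncomputable instance : Fintype (hermSub hF ι) := Fintype.ofFinite _

/-- the congruence action -/
def cong (A : Matrix ι ι F) (S : hermSub hF ι) : hermSub hF ι :=
  ⟨A * S.1 * cT hF A, by
    rw [mem_hermSub, cT_mul, cT_mul, cT_cT, (mem_hermSub hF).1 S.2, Matrix.mul_assoc]⟩

theorem cong_val (A : Matrix ι ι F) (S : hermSub hF ι) : (cong hF A S).1 = A * S.1 * cT hF A := rfl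

theorem cong_injective {A : Matrix ι ι F} (hA : A.det ≠ 0) : Function.Injective (cong hF A) := by
  intro S S' h
  have h1 := congrArg Subtype.val h
  rw [cong_val, cong_val] at h1
  have hu : IsUnit A.det := isUnit_iff_ne_zero.2 hA
  have hu' : IsUnit (cT hF A).det := by
    rw [det_cT]
    exact isUnit_iff_ne_zero.2 (pow_ne_zero _ hA)
  apply Subtype.ext
  have h2 : A⁻¹ * (A * S.1 * cT hF A * (cT hF A)⁻¹) = A⁻¹ * (A * S'.1 * cT hF A * (cT hF A)⁻¹) := by
    rw [h1]
  rwa [Matrix.mul_nonsing_inv_cancel_right _ _ hu', Matrix.mul_nonsing_inv_cancel_right _ _ hu',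
    Matrix.nonsing_inv_mul_cancel_left _ _ hu, Matrix.nonsing_inv_mul_cancel_left _ _ hu] at h2

theorem cong_bijective {A : Matrix ι ι F} (hA : A.det ≠ 0) : Function.Bijective (cong hF A) :=
  Finite.injective_iff_bijective.1 (cong_injective hF hA)

theorem cong_zero (A : Matrix ι ι F) : cong hF A 0 = 0 := by
  apply Subtype.ext
  rw [cong_val]
  simp

/-- the additive character `S ↦ ψ (tr (T S))` -/
noncomputable def trChar (ψ : AddChar F ℂ) (T : hermSub hF ι) : AddChar (hermSub hF ι) ℂ where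
  toFun S := ψ (T.1 * S.1).trace
  map_zero_eq_one' := by simp
  map_add_eq_mul' := by
    intro S S'
    rw [AddSubgroup.coe_add, Matrix.mul_add, Matrix.trace_add, AddChar.map_add_eq_mul]

theorem trChar_apply (ψ : AddChar F ℂ) (T S : hermSub hF ι) :
    trChar hF ψ T S = ψ (T.1 * S.1).trace := rfl

theorem trChar_zero (ψ : AddChar F ℂ) (S : hermSub hF ι) : trChar hF ψ 0 S = 1 := by
  rw [trChar_apply]
  simp

theorem trChar_cong (ψ : AddChar F ℂ) (A : Matrix ι ι F) (T S : hermSub hF ι) :
    trChar hF ψ (cong hF (cT hF A) T) S = trChar hF ψ T (cong hF A S) := by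
  rw [trChar_apply, trChar_apply, cong_val, cong_val, cT_cT]
  congr 1
  rw [Matrix.mul_assoc, Matrix.mul_assoc, Matrix.trace_mul_comm, Matrix.mul_assoc, Matrix.mul_assoc]

/-- nondegeneracy of the trace pairing -/
theorem exists_trace_eq_one {S : hermSub hF ι} (hS : S ≠ 0) :
    ∃ T : hermSub hF ι, (T.1 * S.1).trace = 1 := by
  obtain ⟨i, j, hij⟩ : ∃ i j, S.1 i j ≠ 0 := by
    by_contra h
    push Not at h
    apply hS
    apply Subtype.ext
    ext i j
    exact h i j
  obtain ⟨a, ha⟩ := exists_tr hF 1 (one_pow q)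
  set c := a / S.1 i j with hc
  have hS' : S.1 j i = S.1 i j ^ q := by
    have := congrFun (congrFun ((mem_hermSub hF).1 S.2) j) i
    rw [cT_apply] at this
    exact this.symm
  refine ⟨⟨Matrix.single j i c + Matrix.single i j (c ^ q), ?_⟩, ?_⟩
  · rw [mem_hermSub, cT_add]
    have h1 : ∀ (k l : ι) (d : F), cT hF (Matrix.single k l d) = Matrix.single l k (d ^ q) := by
      intro k l d
      unfold cT
      rw [Matrix.map_single, Matrix.transpose_single, frobQ_apply]
    rw [h1, h1, pow_q_pow_q hF, add_comm]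
  · simp only
    rw [Matrix.add_mul, Matrix.trace_add, Matrix.trace_single_mul, Matrix.trace_single_mul, hS',
      smul_eq_mul, smul_eq_mul, ← mul_pow, hc, div_mul_cancel₀ _ hij, ha]

theorem sum_trChar {ψ : AddChar F ℂ} (hψ : ψ 1 ≠ 1) {S : hermSub hF ι} (hS : S ≠ 0) :
    ∑ T, trChar hF ψ T S = 0 := by
  let Λ : AddChar (hermSub hF ι) ℂ :=
    { toFun := fun T => ψ (T.1 * S.1).trace
      map_zero_eq_one' := by simp
      map_add_eq_mul' := by
        intro T T'
        rw [AddSubgroup.coe_add, Matrix.add_mul, Matrix.trace_add, AddChar.map_add_eq_mul] }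
  have hΛ : Λ ≠ 1 := by
    intro h
    obtain ⟨T, hT⟩ := exists_trace_eq_one hF hS
    have h1 : Λ T = 1 := by rw [h]; rfl
    change ψ (T.1 * S.1).trace = 1 at h1
    rw [hT] at h1
    exact hψ h1
  exact AddChar.sum_eq_zero_of_ne_one hΛ

theorem exists_addChar_one_ne : ∃ ψ : AddChar F ℂ, ψ 1 ≠ 1 := by
  have hp := AddChar.FiniteField.primitiveChar_to_Complex_isPrimitive F
  have h1 := hp (one_ne_zero (α := F))
  rw [AddChar.mulShift_one] at h1
  obtain ⟨a, ha⟩ : ∃ a, (AddChar.FiniteField.primitiveChar_to_Complex F) a ≠ 1 := by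
    by_contra hcon
    push Not at hcon
    apply h1
    ext x
    rw [hcon x]
    rfl
  refine ⟨(AddChar.FiniteField.primitiveChar_to_Complex F).mulShift a, ?_⟩
  rwa [AddChar.mulShift_apply, mul_one]

/-- the main estimate -/
theorem siegel_bound {G : Type*} [Group G] {χ : G → ℂ} (hχ : IsCharacter G χ)
    (a : Multiplicative (hermSub hF ι) →* G) {ψ : AddChar F ℂ} (hψ : ψ 1 ≠ 1)
    (hconj : ∀ A : Matrix ι ι F, A.det ≠ 0 → A.det ^ q = A.det → ∀ S : hermSub hF ι,
      χ (a (Multiplicative.ofAdd (cong hF A S))) = χ (a (Multiplicative.ofAdd S)))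
    (hnt : ∃ S, χ (a (Multiplicative.ofAdd S)) ≠ χ 1) (d : ℕ)
    (hd : ∀ T : hermSub hF ι, T ≠ 0 → ∀ k : ℕ,
      gMult (fun S => χ (a (Multiplicative.ofAdd S))) (trChar hF ψ T) = k → k ≠ 0 → d ≤ k)
    {n : ℕ} (hn : χ 1 = n) (i₀ : ι) (h2 : 2 ≤ Fintype.card ι) :
    d * (q ^ (2 * Fintype.card ι) - 1) ≤ (q + 1) * n := by
  classical
  set f : hermSub hF ι → ℂ := fun S => χ (a (Multiplicative.ofAdd S)) with hf
  choose nT hnT using fun T => gMult_nat a hχ (trChar hF ψ T)
  have hinv := gMult_inversion f (trChar hF ψ) (fun z hz => sum_trChar hF hψ hz)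
  have hf0 : f 0 = χ 1 := by
    rw [hf]
    simp
  have hsum : n = ∑ T, nT T := by
    have h1 := hinv 0
    rw [hf0, hn] at h1
    simp only [AddChar.map_zero_eq_one, mul_one] at h1
    have h2 : (n : ℂ) = ((∑ T, nT T : ℕ) : ℂ) := by
      rw [← h1, Nat.cast_sum]
      exact Finset.sum_congr rfl (fun T _ => hnT T)
    exact_mod_cast h2
  set 𝒮 : Finset (hermSub hF ι) := Finset.univ.filter (fun T => T ≠ 0 ∧ nT T ≠ 0) with h𝒮
  have hminv : ∀ A : Matrix ι ι F, A.det ≠ 0 → A.det ^ q = A.det → ∀ T,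
      nT (cong hF (cT hF A) T) = nT T := by
    intro A hA1 hA2 T
    have h1 : gMult f (trChar hF ψ (cong hF (cT hF A) T)) = gMult f (trChar hF ψ T) := by
      unfold gMult
      congr 1
      rw [← (cong_bijective hF hA1).sum_comp (fun S => f S * conj (trChar hF ψ T S))]
      apply Finset.sum_congr rfl
      intro S _
      rw [trChar_cong, hf]
      simp only
      rw [hconj A hA1 hA2]
    have h2 : (nT (cong hF (cT hF A) T) : ℂ) = nT T := by
      rw [← hnT, ← hnT]
      exact h1
    exact_mod_cast h2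
  have hb := orbit_bound hF i₀ h2 (𝒮.image Subtype.val) (by
      by_contra hcon
      rw [Finset.image_nonempty, Finset.not_nonempty_iff_eq_empty] at hcon
      obtain ⟨S, hS⟩ := hnt
      apply hS
      have hz : ∀ T : hermSub hF ι, T ≠ 0 → gMult f (trChar hF ψ T) = 0 := by
        intro T hT
        have h1 : T ∉ 𝒮 := by rw [hcon]; simp
        rw [h𝒮, Finset.mem_filter] at h1
        push Not at h1
        have h3 := h1 (Finset.mem_univ _) hT
        have h4 := hnT T
        rw [h3] at h4
        simpa using h4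
      have e1 := hinv S
      have e2 := hinv 0
      rw [Finset.sum_eq_single 0 (fun T _ hT => by rw [hz T hT, zero_mul])
        (fun h => absurd (Finset.mem_univ _) h), trChar_zero] at e1 e2
      rw [← hf0, ← e2]
      exact e1.symm) (by
      intro h
      obtain ⟨T, hT, hT0⟩ := Finset.mem_image.1 h
      rw [h𝒮, Finset.mem_filter] at hT
      exact hT.2.1 (Subtype.ext hT0)) (by
      intro T hT
      obtain ⟨T', -, rfl⟩ := Finset.mem_image.1 hT
      exact T'.2) (by
      intro A hA1 hA2 T hT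
      obtain ⟨T', hT', rfl⟩ := Finset.mem_image.1 hT
      rw [h𝒮, Finset.mem_filter] at hT'
      refine Finset.mem_image.2 ⟨cong hF (cT hF A) T', ?_, ?_⟩
      · rw [h𝒮, Finset.mem_filter]
        refine ⟨Finset.mem_univ _, ?_, ?_⟩
        · intro h
          apply hT'.2.1
          apply cong_injective hF (A := cT hF A) (by rw [det_cT]; exact pow_ne_zero _ hA1)
          rw [h, cong_zero]
        · rw [hminv A hA1 hA2]
          exact hT'.2.2
      · rw [cong_val, cT_cT])
  rw [Finset.card_image_of_injective _ Subtype.val_injective] at hb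
  have h3 : d * 𝒮.card ≤ n := by
    rw [hsum, mul_comm, ← smul_eq_mul, ← Finset.sum_const]
    refine (Finset.sum_le_sum ?_).trans (Finset.sum_le_sum_of_subset (Finset.subset_univ 𝒮))
    intro T hT
    rw [h𝒮, Finset.mem_filter] at hT
    exact hd T hT.2.1 (nT T) (hnT T) hT.2.2
  calc d * (q ^ (2 * Fintype.card ι) - 1) ≤ d * ((q + 1) * 𝒮.card) := Nat.mul_le_mul_left _ hb
    _ = (q + 1) * (d * 𝒮.card) := by ring
    _ ≤ _ := Nat.mul_le_mul_left _ h3

end Cfsg.Agent.Lib.Helper39.SUDeg
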