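import Cfsg.Agent.Lib.Helper39.SU.Dichotomy

/-!
# Orbits of the Levi subgroup on Hermitian matrices
-/

set_option autoImplicit false
set_option linter.unusedSectionVars false

namespace Cfsg.Agent.Lib.Helper39.SUDeg

open Matrix Module Cfsg.Agent.Lib.Helper13 Cfsg.Agent.Lib.Helper5

variable {F : Type*} [Field F] [Fintype F] [DecidableEq F] {q : ℕ} (hF : Fintype.card F = q ^ 2)
variable {ι : Type*} [Fintype ι] [DecidableEq ι]

include hF

theorem card_norm_one : (Finset.univ.filter (fun c : F => c ^ (q + 1) = 1)).card = q + 1 := by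
  have h := Cfsg.Agent.S0754.result hF 1 one_ne_zero (one_pow q)
  rw [Nat.card_eq_fintype_card, Fintype.card_subtype] at h
  exact h

theorem card_vec : Fintype.card (ι → F) = q ^ (2 * Fintype.card ι) := by
  rw [Fintype.card_fun, hF, ← pow_mul]

theorem rank_one_bound (𝒯 : Finset (Matrix ι ι F)) {t : F} (ht : t ≠ 0)
    (hall : ∀ y : ι → F, y ≠ 0 → t • vecMulVec y (cv q y) ∈ 𝒯) :
    q ^ (2 * Fintype.card ι) - 1 ≤ (q + 1) * 𝒯.card := by
  set s : Finset (ι → F) := Finset.univ.erase 0 with hs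
  set f : (ι → F) → Matrix ι ι F := fun y => t • vecMulVec y (cv q y) with hf
  have hsc : s.card = q ^ (2 * Fintype.card ι) - 1 := by
    rw [hs, Finset.card_erase_of_mem (Finset.mem_univ _), Finset.card_univ, card_vec hF]
  have h1 : s.card ≤ (q + 1) * (s.image f).card := by
    apply Finset.card_le_mul_card_image
    intro M hM
    obtain ⟨y, hy, rfl⟩ := Finset.mem_image.1 hM
    have hy0 : y ≠ 0 := Finset.ne_of_mem_erase hy
    calc _ ≤ ((Finset.univ.filter (fun c : F => c ^ (q + 1) = 1)).image (fun c => c • y)).card := by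
          apply Finset.card_le_card
          intro y' hy'
          rw [Finset.mem_filter] at hy'
          obtain ⟨c, hc, rfl⟩ := rank_one_fibre hF ht hy0 hy'.2
          exact Finset.mem_image.2 ⟨c, by simp [hc], rfl⟩
      _ ≤ _ := Finset.card_image_le
      _ = q + 1 := card_norm_one hF
  rw [← hsc]
  refine h1.trans (Nat.mul_le_mul_left _ (Finset.card_le_card ?_))
  intro M hM
  obtain ⟨y, hy, rfl⟩ := Finset.mem_image.1 hM
  exact hall y (Finset.ne_of_mem_erase hy)

/-- invariance under the Levi subgroup -/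
def LeviInv (𝒯 : Finset (Matrix ι ι F)) : Prop :=
  ∀ A : Matrix ι ι F, A.det ≠ 0 → A.det ^ q = A.det → ∀ T ∈ 𝒯, cT hF A * T * A ∈ 𝒯

theorem realize {𝒯 : Finset (Matrix ι ι F)} (h𝒯 : LeviInv hF 𝒯) {T : Matrix ι ι F} (hT : T ∈ 𝒯)
    (i₀ : ι) (x z : ι → F) (hw : T *ᵥ x ≠ 0) (hz : z ≠ 0) (h : z i₀ = hf q T x x)
    (hcase : (z i₀ ≠ 0 ∧ 2 ≤ Fintype.card ι) ∨ 3 ≤ Fintype.card ι) :
    ∃ T' ∈ 𝒯, T' *ᵥ Pi.single i₀ 1 = z := by
  have hx : x ≠ 0 := by
    rintro rfl
    exact hw (Matrix.mulVec_zero _)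
  obtain ⟨A, hA1, hA2, hA3⟩ := exists_matrix hF i₀ x (T *ᵥ x) z hx hw hz h hcase
  refine ⟨cT hF A * T * A, h𝒯 A (by rw [hA1]; exact one_ne_zero) (by rw [hA1, one_pow]) T hT, ?_⟩
  rw [← Matrix.mulVec_mulVec, hA2, ← Matrix.mulVec_mulVec, hA3]

/-- a matrix of determinant one with prescribed column -/
theorem exists_matrix_col (h2 : 2 ≤ Fintype.card ι) (i₀ : ι) (x : ι → F) (hx : x ≠ 0) :
    ∃ A : Matrix ι ι F, A.det = 1 ∧ A *ᵥ Pi.single i₀ 1 = x := by
  obtain ⟨j, hj⟩ : ∃ j, x j ≠ 0 := by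
    by_contra hcon
    push Not at hcon
    exact hx (funext hcon)
  have hjq : x j ^ q ≠ 0 := pow_ne_zero _ hj
  obtain ⟨A, hA1, hA2, -⟩ := exists_matrix hF i₀ x (Pi.single j (x j ^ q)⁻¹) (Pi.single i₀ 1) hx (by
      intro h
      have := congrFun h j
      simp only [Pi.single_eq_same, Pi.zero_apply] at this
      exact inv_ne_zero hjq this) (by
      intro h
      have := congrFun h i₀
      simp at this) (by
      rw [dotProduct_single, cv_apply, Pi.single_eq_same, mul_inv_cancel₀ hjq])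
      (Or.inl ⟨by simp, h2⟩)
  exact ⟨A, hA1, hA2⟩

theorem cT_mulVec_apply (A : Matrix ι ι F) (w : ι → F) (i₀ : ι) :
    (cT hF A *ᵥ w) i₀ = cv q (A *ᵥ Pi.single i₀ 1) ⬝ᵥ w := by
  rw [Matrix.mulVec_single_one]
  rfl

/-- the diagonal matrix `diag(1, s, …, s)` -/
def dg (i₀ : ι) (s : F) : Matrix ι ι F := Matrix.diagonal fun i => if i = i₀ then 1 else s

omit hF [Fintype F] [DecidableEq F] in
theorem dg_det_ne (i₀ : ι) {s : F} (hs : s ≠ 0) : (dg i₀ s).det ≠ 0 := by
  unfold dg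
  rw [Matrix.det_diagonal, Finset.prod_ne_zero_iff]
  intro i _
  split_ifs
  · exact one_ne_zero
  · exact hs

omit hF [Fintype F] [DecidableEq F] in
theorem dg_det_pow (i₀ : ι) {s : F} (hs : s ^ q = s) : (dg i₀ s).det ^ q = (dg i₀ s).det := by
  unfold dg
  rw [Matrix.det_diagonal, ← Finset.prod_pow]
  apply Finset.prod_congr rfl
  intro i _
  split_ifs
  · exact one_pow q
  · exact hs

theorem card_rest (i₀ : ι) :
    Fintype.card ({j // j ≠ i₀} → F) = q ^ (2 * (Fintype.card ι - 1)) := by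
  rw [card_vec hF]
  congr 2
  exact Set.card_ne_eq i₀

theorem orbit_bound (i₀ : ι) (h2 : 2 ≤ Fintype.card ι) (𝒯 : Finset (Matrix ι ι F))
    (hne : 𝒯.Nonempty) (h0 : (0 : Matrix ι ι F) ∉ 𝒯) (hherm : ∀ T ∈ 𝒯, cT hF T = T)
    (h𝒯 : LeviInv hF 𝒯) :
    q ^ (2 * Fintype.card ι) - 1 ≤ (q + 1) * 𝒯.card := by
  have hq := two_le_of_card_sq hF
  obtain ⟨T, hT⟩ := hne
  have hT0 : T ≠ 0 := by rintro rfl; exact h0 hT
  have hTh := hherm T hT
  rcases herm_dichotomy hF hTh hT0 with ⟨x, hx1, hx2⟩ | ⟨u, t, hu, ht, hTu⟩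
  swap
  · -- rank one
    apply rank_one_bound hF 𝒯 ht
    intro y hy
    obtain ⟨A, hA1, hA2⟩ := exists_matrix_vec hF h2 u y hu hy
    have := h𝒯 A (by rw [hA1]; exact one_ne_zero) (by rw [hA1, one_pow]) T hT
    rw [hTu, conj_rank_one hF, hA2] at this
    exact this
  -- an isotropic vector outside the radical
  obtain ⟨v₁, hv₁⟩ := herm_exists_ne hF hTh hT0
  set a := hf q T v₁ v₁ with ha
  have haq : a ^ q = a := hf_self_pow hF hTh v₁
  set Ψ : Matrix ι ι F → (ι → F) := fun T' => T' *ᵥ Pi.single i₀ 1 with hΨ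
  set emb : F × ({j // j ≠ i₀} → F) → (ι → F) := fun p => (Equiv.funSplitAt i₀ F).symm p with hemb
  have hemb_inj : Function.Injective emb := (Equiv.funSplitAt i₀ F).symm.injective
  have hemb0 : ∀ p, emb p i₀ = p.1 := by
    intro p
    change (Equiv.funSplitAt i₀ F).symm p i₀ = p.1
    rw [Equiv.funSplitAt_symm_apply, dif_pos rfl]
  set fx : Finset F := (Finset.univ.erase (0 : F)).filter (fun c => c ^ q = c) with hfx
  have hfxc : fx.card = q - 1 := card_fixed_ne_zero hF
  set Y₁ : Finset (ι → F) := (fx ×ˢ Finset.univ).image emb with hY₁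
  have hY₁c : Y₁.card = (q - 1) * q ^ (2 * (Fintype.card ι - 1)) := by
    rw [hY₁, Finset.card_image_of_injective _ hemb_inj, Finset.card_product, hfxc, Finset.card_univ,
      card_rest hF]
  have hY₁sub : Y₁ ⊆ 𝒯.image Ψ := by
    intro z hz
    obtain ⟨p, hp, rfl⟩ := Finset.mem_image.1 hz
    rw [Finset.mem_product, hfx, Finset.mem_filter, Finset.mem_erase] at hp
    obtain ⟨⟨⟨hp0, -⟩, hpq⟩, -⟩ := hp
    obtain ⟨c, hc0, hc⟩ := exists_norm_eq hF (p.1 / a) (div_ne_zero hp0 hv₁) (by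
      rw [div_pow, hpq, haq])
    have h1 : hf q T (c • v₁) (c • v₁) = p.1 := by
      rw [hf_smul_left, hf_smul_right, ← mul_assoc, ← pow_succ, hc, ← ha]
      field_simp
    obtain ⟨T', hT', hT'z⟩ := realize hF h𝒯 hT i₀ (c • v₁) (emb p) (by
        intro h
        apply hp0
        rw [← h1]
        unfold hf
        rw [h, dotProduct_zero]) (by
        intro h
        apply hp0
        rw [← hemb0 p, h]
        rfl) (by rw [hemb0, h1]) (Or.inl ⟨by rw [hemb0]; exact hp0, h2⟩)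
    exact Finset.mem_image.2 ⟨T', hT', hT'z⟩
  have hY₁0 : ∀ z ∈ Y₁, z i₀ ≠ 0 := by
    intro z hz
    obtain ⟨p, hp, rfl⟩ := Finset.mem_image.1 hz
    rw [Finset.mem_product, hfx, Finset.mem_filter, Finset.mem_erase] at hp
    rw [hemb0]
    exact hp.1.1.1
  have hfinal : ∀ Y₂ : Finset (ι → F), Y₂ ⊆ 𝒯.image Ψ → (∀ z ∈ Y₂, z i₀ = 0) →
      Y₁.card + Y₂.card ≤ 𝒯.card := by
    intro Y₂ hsub hz0
    have hdisj : Disjoint Y₁ Y₂ := by
      rw [Finset.disjoint_left]
      intro z h1 h2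
      exact hY₁0 z h1 (hz0 z h2)
    rw [← Finset.card_union_of_disjoint hdisj]
    exact (Finset.card_le_card (Finset.union_subset hY₁sub hsub)).trans Finset.card_image_le
  obtain ⟨m, hm⟩ : ∃ m, Fintype.card ι = m + 2 := ⟨Fintype.card ι - 2, by omega⟩
  obtain ⟨r, rfl⟩ : ∃ r, q = r + 2 := ⟨q - 2, by omega⟩
  by_cases h3 : 3 ≤ Fintype.card ι
  · set Y₂ : Finset (ι → F) := (Finset.univ.erase (0 : {j // j ≠ i₀} → F)).image
      (fun y => emb (0, y)) with hY₂
    have hY₂c : Y₂.card = (r + 2) ^ (2 * (Fintype.card ι - 1)) - 1 := by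
      rw [hY₂, Finset.card_image_of_injective, Finset.card_erase_of_mem (Finset.mem_univ _),
        Finset.card_univ, card_rest hF]
      intro y y' h
      exact (Prod.ext_iff.1 (hemb_inj h)).2
    have := hfinal Y₂ (by
      intro z hz
      obtain ⟨y, hy, rfl⟩ := Finset.mem_image.1 hz
      obtain ⟨T', hT', hT'z⟩ := realize hF h𝒯 hT i₀ x (emb (0, y)) hx2 (by
        intro h
        apply Finset.ne_of_mem_erase hy
        have h5 : emb (0, y) = emb (0, 0) := by
          rw [h]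
          ext j
          change (0 : ι → F) j = (Equiv.funSplitAt i₀ F).symm (0, 0) j
          rw [Equiv.funSplitAt_symm_apply]
          split_ifs <;> rfl
        exact (Prod.ext_iff.1 (hemb_inj h5)).2) (by rw [hemb0, hx1]) (Or.inr h3)
      exact Finset.mem_image.2 ⟨T', hT', hT'z⟩) (by
      intro z hz
      obtain ⟨y, hy, rfl⟩ := Finset.mem_image.1 hz
      rw [hemb0])
    rw [hY₁c, hY₂c] at this
    refine le_trans ?_ (Nat.mul_le_mul_left _ this)
    rw [hm]
    have e1 : m + 2 - 1 = m + 1 := by omega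
    rw [e1]
    have e2 : r + 2 - 1 = r + 1 := by omega
    rw [e2]
    set P := (r + 2) ^ (2 * (m + 1)) with hP
    have hP1 : 1 ≤ P := Nat.one_le_pow _ _ (by omega)
    have e3 : (r + 2) ^ (2 * (m + 2)) = (r + 2) ^ 2 * P := by
      rw [hP, ← pow_add]
      congr 1
      ring
    rw [e3]
    clear_value P
    obtain ⟨P', rfl⟩ : ∃ P', P = P' + 1 := ⟨P - 1, by omega⟩
    simp only [Nat.add_sub_cancel]
    apply Nat.sub_le_of_le_add
    nlinarith
  · have hm0 : m = 0 := by omega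
    subst hm0
    obtain ⟨A, hA1, hA2⟩ := exists_matrix_col hF h2 i₀ x (by
      rintro rfl
      exact hx2 (Matrix.mulVec_zero _))
    set T1 := cT hF A * T * A with hT1
    have hT1mem : T1 ∈ 𝒯 := h𝒯 A (by rw [hA1]; exact one_ne_zero) (by rw [hA1, one_pow]) T hT
    set z₀ := T1 *ᵥ Pi.single i₀ 1 with hz₀
    have hz₀' : z₀ = cT hF A *ᵥ (T *ᵥ x) := by
      rw [hz₀, hT1, ← Matrix.mulVec_mulVec, hA2, ← Matrix.mulVec_mulVec]
    have hz₀0 : z₀ i₀ = 0 := by
      rw [hz₀', cT_mulVec_apply hF, hA2]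
      exact hx1
    have hz₀ne : z₀ ≠ 0 := by
      intro h
      rw [hz₀'] at h
      exact hx2 (Matrix.eq_zero_of_mulVec_eq_zero (by rw [det_cT, hA1, one_pow]; exact one_ne_zero) h)
    set Y₂ : Finset (ι → F) := fx.image (fun s => s • z₀) with hY₂
    have hY₂c : Y₂.card = r + 2 - 1 := by
      rw [hY₂, Finset.card_image_of_injective, hfxc]
      intro s s' h
      exact smul_left_injective F hz₀ne h
    have := hfinal Y₂ (by
      intro z hz
      obtain ⟨s, hs, rfl⟩ := Finset.mem_image.1 hz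
      rw [hfx, Finset.mem_filter, Finset.mem_erase] at hs
      obtain ⟨⟨hs0, -⟩, hsq⟩ := hs
      refine Finset.mem_image.2 ⟨cT hF (dg i₀ s) * T1 * dg i₀ s,
        h𝒯 _ (dg_det_ne i₀ hs0) (dg_det_pow i₀ hsq) _ hT1mem, ?_⟩
      have e1 : dg i₀ s *ᵥ Pi.single i₀ 1 = Pi.single i₀ 1 := by
        ext j
        unfold dg
        rw [Matrix.mulVec_diagonal]
        by_cases hj : j = i₀
        · subst hj; simp
        · simp [hj]
      rw [hΨ]
      simp only
      rw [← Matrix.mulVec_mulVec, e1, ← Matrix.mulVec_mulVec, ← hz₀]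
      have e2 : cT hF (dg i₀ s) = dg i₀ s := by
        ext j k
        unfold dg
        rw [cT_apply, Matrix.diagonal_apply, Matrix.diagonal_apply]
        by_cases hjk : j = k
        · subst hjk
          simp only [if_true]
          split_ifs
          · exact one_pow _
          · exact hsq
        · rw [if_neg hjk, if_neg (Ne.symm hjk)]
          exact zero_pow (by omega)
      rw [e2]
      ext j
      unfold dg
      rw [Matrix.mulVec_diagonal]
      by_cases hj : j = i₀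
      · subst hj; simp [hz₀0]
      · simp [hj]) (by
      intro z hz
      obtain ⟨s, hs, rfl⟩ := Finset.mem_image.1 hz
      simp [hz₀0])
    rw [hY₁c, hY₂c] at this
    refine le_trans ?_ (Nat.mul_le_mul_left _ this)
    rw [hm]
    have e2 : r + 2 - 1 = r + 1 := by omega
    rw [e2]
    apply Nat.sub_le_of_le_add
    simp only [zero_add, Nat.add_sub_cancel]
    apply le_of_eq
    ring

end Cfsg.Agent.Lib.Helper39.SUDeg
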