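import Cfsg.Agent.Lib.Helper39.SU.Basic
import Cfsg.Agent.Lib.Helper43.Transv

/-!
# Transitivity properties of the special linear group
-/

set_option autoImplicit false
set_option linter.unusedSectionVars false

namespace Cfsg.Agent.Lib.Helper39.SUDeg

open Matrix Module Cfsg.Agent.Lib.Helper13 Cfsg.Agent.Lib.Helper5 Cfsg.Agent.Lib.Helper43

section
variable {K : Type*} [Field K] {V : Type*} [AddCommGroup V] [Module K V] [FiniteDimensional K V]

theorem exists_equiv_nonflag (a b : V) (φ ψ : Dual K V) (h : φ a = ψ b) (hne : φ a ≠ 0) :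
    ∃ g : V ≃ₗ[K] V, g a = b ∧ ∀ x, ψ (g x) = φ x := by
  have hφ : φ ≠ 0 := by rintro rfl; exact hne rfl
  have hψ : ψ ≠ 0 := by rintro rfl; exact hne h
  have h1 := Module.Dual.finrank_ker_add_one_of_ne_zero hφ
  have h2 := Module.Dual.finrank_ker_add_one_of_ne_zero hψ
  let e : LinearMap.ker φ ≃ₗ[K] LinearMap.ker ψ := LinearEquiv.ofFinrankEq _ _ (by omega)
  set x0 : V := (φ a)⁻¹ • a with hx0d
  set y0 : V := (φ a)⁻¹ • b with hy0d
  have hx0 : φ x0 = 1 := by simp [hx0d, hne]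
  have hy0 : ψ y0 = 1 := by simp [hy0d, ← h, hne]
  let π : V →ₗ[K] LinearMap.ker φ := LinearMap.codRestrict _ (LinearMap.id - φ.smulRight x0) (by
    intro x
    simp [hx0])
  have hπ : ∀ x, (π x : V) = x - φ x • x0 := fun x => rfl
  let g : V →ₗ[K] V := (LinearMap.ker ψ).subtype ∘ₗ (e : LinearMap.ker φ →ₗ[K] LinearMap.ker ψ) ∘ₗ π
    + φ.smulRight y0
  have hg : ∀ x, g x = (e (π x) : V) + φ x • y0 := fun x => rfl
  have hψg : ∀ x, ψ (g x) = φ x := by
    intro x
    rw [hg, map_add, map_smul, hy0]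
    have : ψ (e (π x) : V) = 0 := (e (π x)).2
    rw [this]; simp
  have hinj : Function.Injective g := by
    rw [← LinearMap.ker_eq_bot, LinearMap.ker_eq_bot']
    intro x hx
    have h3 : φ x = 0 := by rw [← hψg, hx, map_zero]
    rw [hg, h3, zero_smul, add_zero] at hx
    have h4 : e (π x) = 0 := Subtype.ext hx
    have h5 : π x = 0 := by simpa using h4
    have h6 := hπ x
    rw [h5, h3] at h6
    simpa using h6.symm
  refine ⟨LinearEquiv.ofInjectiveEndo g hinj, ?_, hψg⟩
  show g a = b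
  have : π a = 0 := by
    apply Subtype.ext
    rw [hπ, hx0d, smul_smul, mul_inv_cancel₀ hne, one_smul, sub_self]
    rfl
  rw [hg, this, map_zero, hy0d, smul_smul, mul_inv_cancel₀ hne, one_smul]
  simp

theorem exists_equiv_nonflag_det_one (hdim : 2 ≤ finrank K V) (a b : V) (φ ψ : Dual K V)
    (h : φ a = ψ b) (hne : φ a ≠ 0) :
    ∃ g : V ≃ₗ[K] V, g a = b ∧ (∀ x, ψ (g x) = φ x) ∧ LinearMap.det (g : V →ₗ[K] V) = 1 := by
  obtain ⟨g, hga, hgφ⟩ := exists_equiv_nonflag a b φ ψ h hne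
  have hψ : ψ ≠ 0 := by rintro rfl; exact hne h
  have h2 := Module.Dual.finrank_ker_add_one_of_ne_zero hψ
  obtain ⟨c, hcψ, hc0⟩ : ∃ c, ψ c = 0 ∧ c ≠ 0 := by
    have : 0 < finrank K (LinearMap.ker ψ) := by omega
    rw [Module.finrank_pos_iff_exists_ne_zero] at this
    obtain ⟨c, hc⟩ := this
    exact ⟨c.1, c.2, fun h0 => hc (Subtype.ext h0)⟩
  have hcb : c ∉ (K ∙ b) := by
    intro hmem
    obtain ⟨t, rfl⟩ := Submodule.mem_span_singleton.1 hmem
    rw [map_smul, smul_eq_mul, ← h] at hcψ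
    rcases mul_eq_zero.1 hcψ with h0 | h0
    · apply hc0; rw [h0, zero_smul]
    · exact hne h0
  obtain ⟨χ0, hχ0c, hχ0b⟩ := Submodule.exists_le_ker_of_notMem hcb
  let χ : Dual K V := (χ0 c)⁻¹ • χ0
  have hχc : χ c = 1 := by simp [χ, hχ0c]
  have hχb : χ b = 0 := by
    have : χ0 b = 0 := hχ0b (Submodule.mem_span_singleton_self b)
    simp [χ, this]
  have hdet : LinearMap.det (g : V →ₗ[K] V) ≠ 0 := (LinearEquiv.isUnit_det' g).ne_zero
  obtain ⟨k, hh, hhdet⟩ := exists_dilation_of_dual c χ hχc (LinearMap.det (g : V →ₗ[K] V))⁻¹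
    (inv_ne_zero hdet)
  refine ⟨g.trans k, ?_, ?_, ?_⟩
  · rw [LinearEquiv.trans_apply, hga, hh, hχb, zero_smul, add_zero]
  · intro x
    rw [LinearEquiv.trans_apply, hh, map_add, map_smul, map_smul, hcψ, hgφ]
    simp
  · have : ((g.trans k : V ≃ₗ[K] V) : V →ₗ[K] V) = (k : V →ₗ[K] V) ∘ₗ (g : V →ₗ[K] V) := rfl
    rw [this, LinearMap.det_comp, hhdet, inv_mul_cancel₀ hdet]

end

variable {F : Type*} [Field F] [Fintype F] {q : ℕ} (hF : Fintype.card F = q ^ 2)
variable {ι : Type*} [Fintype ι] [DecidableEq ι]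

/-- the linear form `v ↦ z ⬝ᵥ v` -/
def dotL (z : ι → F) : Dual F (ι → F) where
  toFun v := z ⬝ᵥ v
  map_add' := dotProduct_add z
  map_smul' c v := by simp [dotProduct_smul]

theorem dotL_apply (z v : ι → F) : dotL z v = z ⬝ᵥ v := rfl

theorem dotL_ne_zero {z : ι → F} (hz : z ≠ 0) : dotL z ≠ 0 := by
  intro h
  apply hz
  ext i
  have := congrArg (fun f => f (Pi.single i 1)) h
  simpa [dotL_apply] using this

include hF

/-- realisation of a prescribed first column -/
theorem exists_matrix (i₀ : ι) (x w z : ι → F) (hx : x ≠ 0) (hw : w ≠ 0) (hz : z ≠ 0)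
    (h : z i₀ = cv q x ⬝ᵥ w)
    (hcase : (z i₀ ≠ 0 ∧ 2 ≤ Fintype.card ι) ∨ 3 ≤ Fintype.card ι) :
    ∃ A : Matrix ι ι F, A.det = 1 ∧ A *ᵥ Pi.single i₀ 1 = x ∧ cT hF A *ᵥ w = z := by
  have hfr : finrank F (ι → F) = Fintype.card ι := Module.finrank_fintype_fun_eq_card F
  have h1 : dotL z (Pi.single i₀ 1) = dotL w (cv q x) := by
    rw [dotL_apply, dotL_apply, dotProduct_single_one, h, dotProduct_comm]
  obtain ⟨g, hg1, hg2, hg3⟩ : ∃ g : (ι → F) ≃ₗ[F] (ι → F), g (Pi.single i₀ 1) = cv q x ∧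
      (∀ v, dotL w (g v) = dotL z v) ∧ LinearMap.det (g : (ι → F) →ₗ[F] (ι → F)) = 1 := by
    by_cases h0 : z i₀ = 0
    · have h3 : 3 ≤ Fintype.card ι := by
        rcases hcase with h | h
        · exact absurd h0 h.1
        · exact h
      refine exists_equiv_of_flags_det_one (by rw [hfr]; exact h3) _ _ _ _ ?_ ?_ (dotL_ne_zero hz)
        (dotL_ne_zero hw) ?_ ?_
      · intro h4
        have := congrFun h4 i₀
        simp at this
      · rwa [Ne, cv_eq_zero hF]
      · rw [dotL_apply, dotProduct_single_one, h0]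
      · rw [← h1, dotL_apply, dotProduct_single_one, h0]
    · have h2 : 2 ≤ Fintype.card ι := by
        rcases hcase with h | h
        · exact h.2
        · omega
      refine exists_equiv_nonflag_det_one (by rw [hfr]; exact h2) _ _ _ _ h1 ?_
      rwa [dotL_apply, dotProduct_single_one]
  set A' : Matrix ι ι F := LinearMap.toMatrix' (g : (ι → F) →ₗ[F] (ι → F)) with hA'
  have hA'v : ∀ v, A' *ᵥ v = g v := fun v => LinearMap.toMatrix'_mulVec _ v
  refine ⟨A'.map (frobQ hF), ?_, ?_, ?_⟩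
  · have := (frobQ hF).map_det A'
    rw [hA', LinearMap.det_toMatrix', hg3, map_one] at this
    exact this.symm
  · rw [← cv_single hF i₀, ← cv_mulVec hF, hA'v, hg1, cv_cv hF]
  · have h5 : cT hF (A'.map (frobQ hF)) = A'ᵀ := by
      ext i j
      simp only [cT_apply, Matrix.map_apply, frobQ_apply, pow_q_pow_q hF, Matrix.transpose_apply]
    rw [h5, Matrix.mulVec_transpose]
    ext j
    have h6 := hg2 (Pi.single j 1)
    rw [dotL_apply, dotL_apply, dotProduct_single_one, ← hA'v, Matrix.mulVec_single_one] at h6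
    rw [← h6]
    rfl

/-- `SL` is transitive on nonzero vectors (through conjugate transposes). -/
theorem exists_matrix_vec (h2 : 2 ≤ Fintype.card ι) (u y : ι → F) (hu : u ≠ 0) (hy : y ≠ 0) :
    ∃ A : Matrix ι ι F, A.det = 1 ∧ cT hF A *ᵥ u = y := by
  obtain ⟨i, hi⟩ : ∃ i, y i ≠ 0 := by
    by_contra hcon
    push Not at hcon
    exact hy (funext hcon)
  obtain ⟨j, hj⟩ : ∃ j, u j ≠ 0 := by
    by_contra hcon
    push Not at hcon
    exact hu (funext hcon)
  have hc : (y i / u j) ^ q ≠ 0 := pow_ne_zero _ (div_ne_zero hi hj)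
  obtain ⟨A, hA1, -, hA3⟩ := exists_matrix hF i (Pi.single j ((y i / u j) ^ q)) u y (by
      intro h
      have := congrFun h j
      simp only [Pi.single_eq_same, Pi.zero_apply] at this
      exact hc this) hu hy (by
      have : cv q (Pi.single j ((y i / u j) ^ q) : ι → F) = Pi.single j (y i / u j) := by
        have hq := two_le_of_card_sq hF
        ext k
        by_cases hk : k = j
        · subst hk; simp [cv_apply, pow_q_pow_q hF]
        · simp [cv_apply, hk]
          omega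
      rw [this, single_dotProduct]
      field_simp) (Or.inl ⟨hi, h2⟩)
  exact ⟨A, hA1, hA3⟩

end Cfsg.Agent.Lib.Helper39.SUDeg
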